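import Cfsg.Agent.H603.CC.Defs
import Cfsg.Agent.ClassicalGeometry.HermOrthonormal
import Cfsg.Agent.ClassicalGeometry.GUBasic
import Mathlib.LinearAlgebra.Transvection.Basic

/-!
# S4793: basic facts on hermitian spaces, reflections, transvections, Witt's theorem
-/

set_option autoImplicit false
set_option linter.unusedSectionVars false

open Cfsg
open scoped ComplexConjugate

namespace Cfsg.Agent.H603.CC

open Module Cfsg.Agent.ClassicalGeometry.HermWitt

universe u v

section API

variable {F : Type u} {V : Type v} [Field F] [AddCommGroup V] [Module F V] {q : ℕ} {σ : F →+* F}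
  {B : V →ₛₗ[σ] V →ₗ[F] F} [Finite F] [Finite V]

/-- Isometries are elements of the unitary group. -/
theorem exists_ofLinear (h : HS q σ B) (φ : V →ₗ[F] V) (hφ : ∀ x y, B (φ x) (φ y) = B x y) :
    ∃ g : UU B, ∀ x, ac B g x = φ x := by
  have hinj : Function.Injective φ := by
    rw [injective_iff_map_eq_zero]
    intro x hx
    apply h.ext
    intro y
    rw [← hφ, hx, map_zero, LinearMap.zero_apply]
  exact ⟨mkU (LinearEquiv.ofInjectiveEndo φ hinj) hφ, fun x => rfl⟩

theorem form_smul_left (c : F) (x y : V) : B (c • x) y = σ c * B x y := by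
  rw [LinearMap.map_smulₛₗ₂, smul_eq_mul]

theorem form_smul_right (c : F) (x y : V) : B x (c • y) = c * B x y := by
  rw [map_smul, smul_eq_mul]

theorem form_add_left (x y z : V) : B (x + y) z = B x z + B y z := LinearMap.map_add₂ _ _ _ _

theorem form_sub_left (x y z : V) : B (x - y) z = B x z - B y z := LinearMap.map_sub₂ _ _ _ _

theorem form_add_right (x y z : V) : B x (y + z) = B x y + B x z := map_add _ _ _

theorem form_sub_right (x y z : V) : B x (y - z) = B x y - B x z := map_sub _ _ _

theorem HS.norm_one (h : HS q σ B) {c : F} (hc : c ^ (q + 1) = 1) : c * σ c = 1 := by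
  rw [h.sig, ← pow_succ', hc]

/-- The linear functional `x ↦ B f x`. -/
theorem transvection_apply (f : V) (a : F) (x : V) :
    LinearMap.transvection (a • B f) f x = x + (a * B f x) • f := by
  rw [LinearMap.transvection.apply, LinearMap.smul_apply, smul_eq_mul]

/-- the reflection `x ↦ x + (c - 1) B(f,x) f` -/
theorem exists_rf (h : HS q σ B) {f : V} (hf : B f f = 1) {c : F} (hc : c ^ (q + 1) = 1) :
    ∃ ρ ∈ Ref B f, ∀ x, ac B ρ x = x + ((c - 1) * B f x) • f := by
  obtain ⟨g, hg⟩ := exists_ofLinear h (LinearMap.transvection ((c - 1) • B f) f) (by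
    intro x y
    have hn := h.norm_one hc
    simp only [transvection_apply, form_add_left, form_add_right, form_smul_left, form_smul_right, hf,
      map_mul, map_sub, map_one, h.sy]
    linear_combination (B x f * B f y) * hn)
  refine ⟨g, ?_, fun x => by rw [hg, transvection_apply]⟩
  intro x hx
  rw [hg, transvection_apply, hx f (Submodule.mem_span_singleton_self f), mul_zero, zero_smul, add_zero]

theorem mem_perp_span {f x : V} : x ∈ perp B (Submodule.span F {f}) ↔ B f x = 0 := by
  constructor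
  · intro hx
    exact hx f (Submodule.mem_span_singleton_self f)
  · intro hx w hw
    obtain ⟨a, rfl⟩ := Submodule.mem_span_singleton.mp hw
    rw [form_smul_left, hx, mul_zero]

theorem dt_of_ac {g : UU B} {a : F} {f : V} [FiniteDimensional F V]
    (hg : ∀ x, ac B g x = x + (a * B f x) • f) : ((dt g : Fˣ) : F) = 1 + a * B f f := by
  rw [dt_def, LinearEquiv.coe_det]
  have h1 : ((g : V ≃ₗ[F] V) : V →ₗ[F] V) = LinearMap.transvection (a • B f) f := by
    ext x
    rw [transvection_apply]
    exact hg x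
  rw [h1, LinearMap.transvection.det, LinearMap.smul_apply, smul_eq_mul]

theorem of_mem_Ref (h : HS q σ B) {f : V} (hf : B f f = 1) {ρ : UU B} (hρ : ρ ∈ Ref B f) :
    ∃ c : F, c ^ (q + 1) = 1 ∧ (∀ x, ac B ρ x = x + ((c - 1) * B f x) • f) ∧ ((dt ρ : Fˣ) : F) = c := by
  have hfix : ∀ x, B f x = 0 → ac B ρ x = x := fun x hx => hρ x (mem_perp_span.mpr hx)
  set c := B f (ac B ρ f) with hc
  have hdec : ∀ x : V, x = B f x • f + (x - B f x • f) := fun x => by abel
  have horth : ∀ x : V, B f (x - B f x • f) = 0 := fun x => by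
    rw [form_sub_right, form_smul_right, hf, mul_one, sub_self]
  have hρf : ac B ρ f = c • f := by
    have h0 : ac B ρ f - c • f = 0 := by
      apply h.ext
      intro y
      have h1 : B (ac B ρ f) (y - B f y • f) = 0 := by
        rw [← hfix _ (horth y), form_ac, horth y]
      have h2 : B (ac B ρ f) f = σ c := by rw [hc, h.sy]
      rw [form_sub_left, form_smul_left]
      rw [form_sub_right, form_smul_right, h2] at h1
      linear_combination h1
    exact sub_eq_zero.mp h0
  have hc1 : c * σ c = 1 := by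
    have h1 := form_ac ρ f f
    rw [hρf, form_smul_left, form_smul_right, hf] at h1
    linear_combination h1
  have hx : ∀ x, ac B ρ x = x + ((c - 1) * B f x) • f := by
    intro x
    conv_lhs => rw [hdec x]
    rw [ac_add, ac_smul, hρf, hfix _ (horth x), smul_smul, sub_mul, one_mul, sub_smul, mul_comm c]
    abel
  refine ⟨c, ?_, hx, ?_⟩
  · rw [h.sig, ← pow_succ'] at hc1
    exact hc1
  · rw [dt_of_ac hx, hf]
    ring

theorem eq_of_ac_form {f : V} {a : F} {g g' : UU B} (hg : ∀ x, ac B g x = x + (a * B f x) • f)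
    (hg' : ∀ x, ac B g' x = x + (a * B f x) • f) : g = g' :=
  ac_ext fun x => by rw [hg, hg']

theorem card_Ref (h : HS q σ B) {f : V} (hf : B f f = 1) : Nat.card (Ref B f) = q + 1 := by
  classical
  have := Fintype.ofFinite F
  have hF : Fintype.card F = q ^ 2 := by rw [← Nat.card_eq_fintype_card, h.card]
  have hinj : ∀ ρ ρ' : Ref B f, dt (ρ : UU B) = dt (ρ' : UU B) → ρ = ρ' := by
    intro ρ ρ' hd
    obtain ⟨c, _, hx, hdc⟩ := of_mem_Ref h hf ρ.2
    obtain ⟨c', _, hx', hdc'⟩ := of_mem_Ref h hf ρ'.2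
    have hcc : c = c' := by rw [← hdc, ← hdc', hd]
    subst hcc
    exact Subtype.ext (eq_of_ac_form hx hx')
  have h1 : Nat.card (Ref B f) = Nat.card {a : Fˣ // a ^ (q + 1) = 1} := by
    refine Nat.card_congr (Equiv.ofBijective (fun ρ : Ref B f => (⟨dt (ρ : UU B), ?_⟩ :
      {a : Fˣ // a ^ (q + 1) = 1})) ⟨?_, ?_⟩)
    · obtain ⟨c, hc, _, hdc⟩ := of_mem_Ref h hf ρ.2
      ext
      rw [Units.val_pow_eq_pow_val, hdc, hc, Units.val_one]
    · intro ρ ρ' hh
      exact hinj _ _ (congrArg Subtype.val hh)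
    · rintro ⟨a, ha⟩
      obtain ⟨ρ, hρ, hx⟩ := exists_rf h hf (c := (a : F)) (by
        rw [← Units.val_pow_eq_pow_val, ha, Units.val_one])
      refine ⟨⟨ρ, hρ⟩, ?_⟩
      apply Subtype.ext
      ext
      show ((dt ρ : Fˣ) : F) = a
      rw [dt_of_ac hx, hf]
      ring
  rw [h1]
  have h2 := Cfsg.Agent.ClassicalGeometry.GUBasic.card_rootsOfUnity_eq (F := F) hF
  have h3 : Nat.card {a : Fˣ // a ^ (q + 1) = 1} = Nat.card (rootsOfUnity (q + 1) F) :=
    Nat.card_congr (Equiv.subtypeEquivRight fun a => by rw [mem_rootsOfUnity])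
  rw [h3, h2]

/-- transvections `x ↦ x + k B(e,x) e` -/
theorem exists_tv (h : HS q σ B) {e : V} (he : B e e = 0) {k : F} (hk : k + k ^ q = 0) :
    ∃ t ∈ Ref B e, ∀ x, ac B t x = x + (k * B e x) • e := by
  obtain ⟨g, hg⟩ := exists_ofLinear h (LinearMap.transvection (k • B e) e) (by
    intro x y
    rw [← h.sig] at hk
    simp only [transvection_apply, form_add_left, form_add_right, form_smul_left, form_smul_right, he,
      map_mul, h.sy]
    linear_combination (B x e * B e y) * hk)
  refine ⟨g, ?_, fun x => by rw [hg, transvection_apply]⟩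
  intro x hx
  rw [hg, transvection_apply, hx e (Submodule.mem_span_singleton_self e), mul_zero, zero_smul, add_zero]

theorem conj_mem_FixS {W : Submodule F V} {g x : UU B} :
    g * x * g⁻¹ ∈ FixS B (W.map (g : V ≃ₗ[F] V).toLinearMap) ↔ x ∈ FixS B W := by
  constructor
  · intro hx w hw
    have h1 := hx (ac B g w) (Submodule.mem_map_of_mem hw)
    rw [ac_mul, ac_mul, ac_inv_ac] at h1
    have h2 := congrArg (ac B g⁻¹) h1
    rwa [ac_inv_ac, ac_inv_ac] at h2
  · rintro hx _ ⟨w, hw, rfl⟩
    show ac B (g * x * g⁻¹) (ac B g w) = ac B g w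
    rw [ac_mul, ac_mul, ac_inv_ac, hx w hw]

theorem map_perp (W : Submodule F V) (g : UU B) :
    (perp B W).map (g : V ≃ₗ[F] V).toLinearMap = perp B (W.map (g : V ≃ₗ[F] V).toLinearMap) := by
  ext x
  constructor
  · rintro ⟨y, hy, rfl⟩ _ ⟨w, hw, rfl⟩
    show B (ac B g w) (ac B g y) = 0
    rw [form_ac]
    exact hy w hw
  · intro hx
    refine ⟨ac B g⁻¹ x, fun w hw => ?_, ac_ac_inv g x⟩
    rw [← form_ac g, ac_ac_inv]
    exact hx _ ⟨w, hw, rfl⟩

theorem conj_mem_Ref {f : V} {g x : UU B} : g * x * g⁻¹ ∈ Ref B (ac B g f) ↔ x ∈ Ref B f := by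
  have h1 : perp B (Submodule.span F {ac B g f}) =
      (perp B (Submodule.span F {f})).map (g : V ≃ₗ[F] V).toLinearMap := by
    rw [map_perp, Submodule.map_span, Set.image_singleton]
    rfl
  unfold Ref
  rw [h1]
  exact conj_mem_FixS

theorem finrank_perp (h : HS q σ B) (W : Submodule F V) :
    finrank F (perp B W) + finrank F W = finrank F V := by
  let φ : V →+ (W →ₗ[F] F) :=
    { toFun := fun v => (B v).comp W.subtype
      map_zero' := by rw [map_zero, LinearMap.zero_comp]
      map_add' := fun a b => by rw [map_add, LinearMap.add_comp] }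
  have hφ : ∀ v (w : W), φ v w = B v w := fun v w => rfl
  have hker : ∀ v, v ∈ φ.ker ↔ v ∈ perp B W := by
    intro v
    rw [AddMonoidHom.mem_ker]
    constructor
    · intro hv w hw
      have h1 := LinearMap.congr_fun hv (⟨w, hw⟩ : W)
      rw [hφ] at h1
      exact h.zero_symm h1
    · intro hv
      ext w
      rw [hφ]
      exact h.zero_symm (hv w w.2)
  have hsurj : Function.Surjective φ := by
    intro ℓ
    obtain ⟨w, hw⟩ := exists_represent σ B h.sep W.subtype W.injective_subtype ℓ
    exact ⟨w, LinearMap.ext hw⟩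
  have hF1 : 1 < Nat.card F := Finite.one_lt_card
  have h1 : Nat.card V = Nat.card (V ⧸ φ.ker) * Nat.card φ.ker :=
    AddSubgroup.card_eq_card_quotient_mul_card_addSubgroup _
  have h2 : Nat.card (V ⧸ φ.ker) = Nat.card (W →ₗ[F] F) :=
    Nat.card_congr (QuotientAddGroup.quotientKerEquivOfSurjective φ hsurj).toEquiv
  have h3 : Nat.card (W →ₗ[F] F) = Nat.card W :=
    (Nat.card_congr ((Module.finBasis F W).toDualEquiv).toEquiv).symm
  have h4 : Nat.card φ.ker = Nat.card (perp B W) := Nat.card_congr (Equiv.subtypeEquivRight hker)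
  rw [h2, h3, h4, Module.natCard_eq_pow_finrank (K := F) (V := V),
    Module.natCard_eq_pow_finrank (K := F) (V := W),
    Module.natCard_eq_pow_finrank (K := F) (V := perp B W), ← pow_add] at h1
  have h5 := Nat.pow_right_injective hF1 h1
  omega

theorem perp_perp (h : HS q σ B) (W : Submodule F V) : perp B (perp B W) = W := by
  symm
  apply Submodule.eq_of_le_of_finrank_eq
  · intro w hw x hx
    exact h.zero_symm (hx w hw)
  · have h1 := finrank_perp h W
    have h2 := finrank_perp h (perp B W)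
    omega

theorem witt (h : HS q σ B) (X : Submodule F V) (φ : X →ₗ[F] V) (hφ : Function.Injective φ)
    (hB : ∀ x x', B (φ x) (φ x') = B (x : V) (x' : V)) : ∃ g : UU B, ∀ x : X, ac B g x = φ x := by
  obtain ⟨g, hg, hgφ⟩ := exists_extension σ B h.ne_id h.inv h.symm h.sep X φ hφ hB
  exact ⟨mkU g hg, hgφ⟩

/-- vectors of the same norm are conjugate -/
theorem exists_conj_vec (h : HS q σ B) {x y : V} (hx : x ≠ 0) (hy : y ≠ 0) (hxy : B x x = B y y) :
    ∃ g : UU B, ac B g x = y := by
  let e : F ≃ₗ[F] Submodule.span F {x} := LinearEquiv.toSpanNonzeroSingleton F V x hx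
  have he : ∀ a : F, ((e a : Submodule.span F {x}) : V) = a • x := fun a => rfl
  let φ : Submodule.span F {x} →ₗ[F] V := (LinearMap.toSpanSingleton F V y) ∘ₗ (e.symm : _ →ₗ[F] F)
  have hφ : ∀ a : F, φ (e a) = a • y := fun a => by
    show LinearMap.toSpanSingleton F V y (e.symm (e a)) = a • y
    rw [LinearEquiv.symm_apply_apply, LinearMap.toSpanSingleton_apply]
  obtain ⟨g, hg⟩ := witt h (Submodule.span F {x}) φ (by
      rw [injective_iff_map_eq_zero]
      intro z hz
      obtain ⟨a, rfl⟩ := e.surjective z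
      rw [hφ] at hz
      rcases smul_eq_zero.mp hz with h1 | h1
      · rw [h1, map_zero]
      · exact absurd h1 hy) (by
      intro z z'
      obtain ⟨a, rfl⟩ := e.surjective z
      obtain ⟨a', rfl⟩ := e.surjective z'
      rw [hφ, hφ, he, he]
      simp only [form_smul_left, form_smul_right, hxy])
  refine ⟨g, ?_⟩
  have h1 := hg (e 1)
  rw [hφ, he, one_smul, one_smul] at h1
  exact h1

/-- a subspace which is not totally singular contains a vector of norm one -/
theorem exists_unit (h : HS q σ B) {W : Submodule F V} (hW : ¬ IsTS B W) : ∃ f ∈ W, B f f = 1 := by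
  unfold IsTS at hW
  push Not at hW
  obtain ⟨x, hx, y, hy, hxy⟩ := hW
  exact exists_apply_self_eq_one σ B h.ne_id h.inv h.symm W ⟨x, hx, y, hy, hxy⟩

/-- two orthogonal anisotropic vectors span a plane with a singular vector -/
theorem exists_singular_of_pair (h : HS q σ B) {a b : V} (ha : B a a ≠ 0) (hb : B b b ≠ 0)
    (hab : B a b = 0) : ∃ c : F, c ≠ 0 ∧ B (a + c • b) (a + c • b) = 0 := by
  obtain ⟨c, hc0, hc⟩ := norm_surj σ h.ne_id h.inv (-(B a a) / B b b) (by
    rw [map_div₀, map_neg, h.sy, h.sy]) (div_ne_zero (neg_ne_zero.mpr ha) hb)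
  refine ⟨c, hc0, ?_⟩
  have hba : B b a = 0 := h.zero_symm hab
  simp only [form_add_left, form_add_right, form_smul_left, form_smul_right, hab, hba, mul_zero, add_zero,
    zero_add]
  have h1 : c * (σ c * B b b) = -(B a a) := by
    rw [← mul_assoc, hc, div_mul_cancel₀ _ hb]
  rw [h1, add_neg_cancel]

theorem finrank_le_of_TS (h : HS q σ B) {E : Submodule F V} (hE : IsTS B E) :
    2 * finrank F E ≤ finrank F V := by
  have h1 := finrank_perp h E
  have h2 : E ≤ perp B E := fun x hx y hy => hE y hy x hx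
  have h3 := Submodule.finrank_mono h2
  omega

/-- extending totally singular subspaces -/
theorem exists_TS_succ (h : HS q σ B) {E : Submodule F V} (hE : IsTS B E)
    (hlt : 2 * finrank F E + 2 ≤ finrank F V) :
    ∃ E', E ≤ E' ∧ IsTS B E' ∧ finrank F E' = finrank F E + 1 := by
  -- a singular vector in `perp E`, not in `E`
  have hsub : E ≤ perp B E := fun x hx y hy => hE y hy x hx
  have hperp := finrank_perp h E
  suffices hs : ∃ v ∈ perp B E, v ∉ E ∧ B v v = 0 by
    obtain ⟨v, hv, hvE, hvv⟩ := hs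
    refine ⟨E ⊔ Submodule.span F {v}, le_sup_left, ?_, Submodule.finrank_sup_span_singleton hvE⟩
    intro x hx y hy
    obtain ⟨a, ha, b, hb, rfl⟩ := Submodule.mem_sup.mp hx
    obtain ⟨a', ha', b', hb', rfl⟩ := Submodule.mem_sup.mp hy
    obtain ⟨c, rfl⟩ := Submodule.mem_span_singleton.mp hb
    obtain ⟨c', rfl⟩ := Submodule.mem_span_singleton.mp hb'
    simp only [form_add_left, form_add_right, form_smul_left, form_smul_right, hE a ha a' ha', hv a ha,
      h.zero_symm (hv a' ha'), hvv, mul_zero, add_zero]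
  by_cases hts : IsTS B (perp B E)
  · -- then `perp E = E`, impossible
    exfalso
    have := finrank_le_of_TS h hts
    omega
  obtain ⟨f, hf, hff⟩ := exists_unit h hts
  have hfE : f ∉ E := fun hfE => by
    have := hE f hfE f hfE
    rw [hff] at this
    exact one_ne_zero this
  -- `W = perp E ∩ f^perp`
  set W := perp B (E ⊔ Submodule.span F {f}) with hW
  have hWmem : ∀ x, x ∈ W ↔ x ∈ perp B E ∧ B f x = 0 := by
    intro x
    constructor
    · intro hx
      exact ⟨fun w hw => hx w (Submodule.mem_sup_left hw),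
        hx f (Submodule.mem_sup_right (Submodule.mem_span_singleton_self f))⟩
    · rintro ⟨hx, hfx⟩ w hw
      obtain ⟨a, ha, b, hb, rfl⟩ := Submodule.mem_sup.mp hw
      obtain ⟨c, rfl⟩ := Submodule.mem_span_singleton.mp hb
      rw [form_add_left, form_smul_left, hx a ha, hfx, mul_zero, add_zero]
  have hWr : finrank F W + (finrank F E + 1) = finrank F V := by
    rw [hW, ← Submodule.finrank_sup_span_singleton hfE]
    exact finrank_perp h _
  have hEW : E ≤ W := fun x hx => (hWmem x).2 ⟨hsub hx, h.zero_symm (hf x hx)⟩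
  have hne : ¬ W ≤ E := fun hle => by
    have := Submodule.finrank_mono hle
    omega
  obtain ⟨v, hv, hvE⟩ := Set.not_subset.mp hne
  by_cases hvv : B v v = 0
  · exact ⟨v, ((hWmem v).1 hv).1, hvE, hvv⟩
  · obtain ⟨c, hc0, hc⟩ := exists_singular_of_pair h (a := v) (b := f) hvv
      (by rw [hff]; exact one_ne_zero) (h.zero_symm ((hWmem v).1 hv).2)
    refine ⟨v + c • f, Submodule.add_mem _ ((hWmem v).1 hv).1 (Submodule.smul_mem _ _ hf), ?_, hc⟩
    intro hmem
    have h1 : B f (v + c • f) = 0 := ((hWmem _).1 (hEW hmem)).2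
    rw [form_add_right, form_smul_right, ((hWmem v).1 hv).2, hff, mul_one, zero_add] at h1
    exact hc0 h1

/-- totally singular subspaces lie in totally singular subspaces of dimension `m`, `dim V = 2 m + 1` or `2 m` -/
theorem exists_max (h : HS q σ B) {m : ℕ} (hm : finrank F V = 2 * m + 1 ∨ finrank F V = 2 * m)
    {E : Submodule F V} (hE : IsTS B E) : ∃ E', E ≤ E' ∧ IsTS B E' ∧ finrank F E' = m := by
  have hle := finrank_le_of_TS h hE
  obtain ⟨k, hk⟩ : ∃ k, finrank F E + k = m := ⟨m - finrank F E, by omega⟩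
  induction k generalizing E with
  | zero => exact ⟨E, le_rfl, hE, by omega⟩
  | succ k ih =>
    obtain ⟨E', hE', hts, hr⟩ := exists_TS_succ h hE (by omega)
    obtain ⟨E'', h1, h2, h3⟩ := ih hts (finrank_le_of_TS h hts) (by omega)
    exact ⟨E'', hE'.trans h1, h2, h3⟩

theorem of_mem_Ref_tv (h : HS q σ B) {e : V} (he0 : e ≠ 0) (he : B e e = 0) {t : UU B} (ht : t ∈ Ref B e) :
    ∃ k : F, k + k ^ q = 0 ∧ (∀ x, ac B t x = x + (k * B e x) • e) ∧ dt t = 1 := by
  have hfix : ∀ x, B e x = 0 → ac B t x = x := fun x hx => ht x (mem_perp_span.mpr hx)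
  -- `t x - x` is orthogonal to `e^perp`
  have hspan : ∀ x, ac B t x - x ∈ Submodule.span F {e} := by
    intro x
    rw [← perp_perp h (Submodule.span F {e})]
    intro w hw
    have hw' : B e w = 0 := mem_perp_span.mp hw
    rw [form_sub_right]
    have h1 : B w (ac B t x) = B w x := by
      conv_lhs => rw [← hfix w hw']
      rw [form_ac]
    rw [h1, sub_self]
  obtain ⟨y, hy⟩ : ∃ y, B e y ≠ 0 := by
    by_contra hcon
    push Not at hcon
    exact he0 (h.ext hcon)
  obtain ⟨a, ha⟩ := Submodule.mem_span_singleton.mp (hspan y)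
  set k := a / B e y with hk
  have hty : ac B t y = y + a • e := by rw [ha]; abel
  have hx : ∀ x, ac B t x = x + (k * B e x) • e := by
    intro x
    have h1 : B e (x - (B e x / B e y) • y) = 0 := by
      rw [form_sub_right, form_smul_right, div_mul_cancel₀ _ hy, sub_self]
    have h2 := hfix _ h1
    rw [ac_sub, ac_smul, hty, smul_add, smul_smul] at h2
    have h3 : B e x / B e y * a = k * B e x := by rw [hk]; ring
    rw [h3] at h2
    have h4 : ac B t x = (x - (B e x / B e y) • y) + ((B e x / B e y) • y + (k * B e x) • e) := by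
      rw [← h2]
      abel
    rw [h4]
    abel
  refine ⟨k, ?_, hx, ?_⟩
  · have h1 := form_ac t y y
    rw [hx] at h1
    simp only [form_add_left, form_add_right, form_smul_left, form_smul_right, he, mul_zero, add_zero,
      map_mul, h.sy] at h1
    have h2 : (k + σ k) * (B y e * B e y) = 0 := by linear_combination h1
    rw [h.sig] at h2
    rcases mul_eq_zero.mp h2 with h3 | h3
    · exact h3
    · exfalso
      rcases mul_eq_zero.mp h3 with h4 | h4
      · exact hy (h.zero_symm h4)
      · exact hy h4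
  · ext
    rw [dt_of_ac hx, he, mul_zero, add_zero, Units.val_one]

/-- elements `k` with `k + k ^ q = 0` form a line over the fixed field -/
theorem HS.exists_norm_mul (h : HS q σ B) {k l : F} (hk : k + k ^ q = 0) (hl : l + l ^ q = 0) (hk0 : k ≠ 0)
    (hl0 : l ≠ 0) : ∃ c : F, c ≠ 0 ∧ k * (c * σ c) = l := by
  rw [← h.sig] at hk hl
  obtain ⟨c, hc0, hc⟩ := norm_surj σ h.ne_id h.inv (l / k) (by
    rw [map_div₀, eq_neg_of_add_eq_zero_right hk, eq_neg_of_add_eq_zero_right hl, neg_div_neg_eq])
    (div_ne_zero hl0 hk0)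
  exact ⟨c, hc0, by rw [hc, mul_div_cancel₀ _ hk0]⟩

theorem isConj_tv (h : HS q σ B) {s t : UU B} (hs : IsTv s) (ht : IsTv t) : IsConj s t := by
  obtain ⟨hs1, e, he0, hee, hse⟩ := hs
  obtain ⟨ht1, e', he0', hee', hte⟩ := ht
  obtain ⟨k, hk, hsx, _⟩ := of_mem_Ref_tv h he0 hee hse
  obtain ⟨l, hl, htx, _⟩ := of_mem_Ref_tv h he0' hee' hte
  have hk0 : k ≠ 0 := by
    rintro rfl
    exact hs1 (ac_ext fun x => by rw [hsx, zero_mul, zero_smul, add_zero, ac_one])
  have hl0 : l ≠ 0 := by
    rintro rfl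
    exact ht1 (ac_ext fun x => by rw [htx, zero_mul, zero_smul, add_zero, ac_one])
  obtain ⟨c, hc0, hc⟩ := h.exists_norm_mul hk hl hk0 hl0
  obtain ⟨g, hg⟩ := exists_conj_vec h (x := e) (y := c • e') he0 (smul_ne_zero hc0 he0') (by
    rw [hee, form_smul_left, form_smul_right, hee', mul_zero, mul_zero])
  rw [isConj_iff]
  refine ⟨g, ac_ext fun x => ?_⟩
  rw [ac_mul, ac_mul, hsx, ac_add, ac_ac_inv, ac_smul, hg, htx, smul_smul]
  congr 2
  have h1 : B e (ac B g⁻¹ x) = σ c * B e' x := by
    rw [← form_ac g, ac_ac_inv, hg, form_smul_left]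
  rw [h1, ← hc]
  ring

theorem exists_isTv (h : HS q σ B) (hn : 2 ≤ finrank F V) : ∃ t : UU B, IsTv t := by
  obtain ⟨E, _, hE, hr⟩ := exists_TS_succ h (E := ⊥) (by
    intro x hx y hy
    rw [(Submodule.mem_bot F).mp hx, map_zero, LinearMap.zero_apply]) (by rw [finrank_bot]; omega)
  rw [finrank_bot, zero_add] at hr
  obtain ⟨⟨e, heE⟩, he0, _⟩ := finrank_eq_one_iff'.mp hr
  have he0' : e ≠ 0 := fun h0 => he0 (Subtype.ext h0)
  have hee : B e e = 0 := hE e heE e heE
  -- an element of trace zero
  obtain ⟨a, ha⟩ : ∃ a : F, σ a ≠ a := by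
    by_contra hcon
    push Not at hcon
    exact h.ne_id (RingHom.ext hcon)
  set k := a - σ a with hk
  have hk0 : k ≠ 0 := sub_ne_zero.mpr (Ne.symm ha)
  have hkq : k + k ^ q = 0 := by
    rw [← h.sig, hk, map_sub, h.inv]
    ring
  obtain ⟨t, ht, htx⟩ := exists_tv h hee hkq
  refine ⟨t, ?_, e, he0', hee, ht⟩
  intro ht1
  obtain ⟨y, hy⟩ : ∃ y, B e y ≠ 0 := by
    by_contra hcon
    push Not at hcon
    exact he0' (h.ext hcon)
  have h1 := htx y
  rw [ht1, ac_one] at h1
  have h2 : (k * B e y) • e = 0 := by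
    have h3 : y + (k * B e y) • e = y + 0 := by rw [add_zero]; exact h1.symm
    exact add_left_cancel h3
  rcases smul_eq_zero.mp h2 with h3 | h3
  · rcases mul_eq_zero.mp h3 with h4 | h4
    · exact hk0 h4
    · exact hy h4
  · exact he0' h3

end API

end Cfsg.Agent.H603.CC
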