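import Cfsg.Agent.ClassicalGeometry.HermWitt
import Cfsg.Agent.H625.SylConst

/-!
# Conjugation character of unitary groups in odd dimension (S4793): definitions

`HS q σ B` : `B` is a nondegenerate hermitian form on a space over the field with `q ^ 2` elements
(semilinear in the FIRST variable, linear in the second one, as in `ClassicalGeometry.HermWitt`).
`UU B` : the unitary group; `perp`, `FixS W` (pointwise stabilizer), `Ref B f` (reflections with centre `f`),
`fx g` (fixed space), `wf q g = (-q) ^ dim fx g`, `Star`, `NoRef`, `IsTS`, `IsTv`, `Zs`.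
-/

set_option autoImplicit false

open Cfsg
open scoped ComplexConjugate

namespace Cfsg.Agent.H603.CC

open Module Cfsg.Agent.ClassicalGeometry.HermWitt

universe u v

section

variable {F : Type u} {V : Type v} [Field F] [AddCommGroup V] [Module F V]

/-- `B` is a nondegenerate hermitian form over the field with `q ^ 2` elements. -/
structure HS (q : ℕ) (σ : F →+* F) (B : V →ₛₗ[σ] V →ₗ[F] F) : Prop where
  two_le : 2 ≤ q
  card : Nat.card F = q ^ 2
  sig : ∀ a : F, σ a = a ^ q
  symm : B.IsSymm
  sep : B.SeparatingLeft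

variable {σ : F →+* F} (B : V →ₛₗ[σ] V →ₗ[F] F)

/-- The unitary group of `B`. -/
def UU : Subgroup (V ≃ₗ[F] V) where
  carrier := {g | ∀ x y, B (g x) (g y) = B x y}
  mul_mem' := by
    intro a b ha hb x y
    rw [LinearEquiv.mul_apply, LinearEquiv.mul_apply, ha, hb]
  one_mem' := fun x y => rfl
  inv_mem' := by
    intro a ha x y
    have h := ha (a⁻¹ x) (a⁻¹ y)
    have h1 : ∀ z, a (a⁻¹ z) = z := fun z => by
      rw [← LinearEquiv.mul_apply, mul_inv_cancel]
      rfl
    rw [h1, h1] at h
    exact h.symm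

/-- The action of an element of the unitary group on the space. -/
def ac (g : UU B) (x : V) : V := (g : V ≃ₗ[F] V) x

variable {B}

theorem ac_def (g : UU B) (x : V) : ac B g x = (g : V ≃ₗ[F] V) x := rfl

theorem ac_one (x : V) : ac B 1 x = x := rfl

theorem ac_mul (g h : UU B) (x : V) : ac B (g * h) x = ac B g (ac B h x) := rfl

theorem ac_add (g : UU B) (x y : V) : ac B g (x + y) = ac B g x + ac B g y := map_add _ _ _

theorem ac_sub (g : UU B) (x y : V) : ac B g (x - y) = ac B g x - ac B g y := map_sub _ _ _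

theorem ac_smul (g : UU B) (c : F) (x : V) : ac B g (c • x) = c • ac B g x := map_smul _ _ _

theorem ac_zero (g : UU B) : ac B g 0 = 0 := map_zero _

theorem ac_inv_ac (g : UU B) (x : V) : ac B g⁻¹ (ac B g x) = x := by
  rw [← ac_mul, inv_mul_cancel, ac_one]

theorem ac_ac_inv (g : UU B) (x : V) : ac B g (ac B g⁻¹ x) = x := by
  rw [← ac_mul, mul_inv_cancel, ac_one]

theorem form_ac (g : UU B) (x y : V) : B (ac B g x) (ac B g y) = B x y := g.2 x y

theorem ac_ext {g h : UU B} (H : ∀ x, ac B g x = ac B h x) : g = h :=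
  Subtype.ext (LinearEquiv.ext H)

/-- Constructing elements of the unitary group. -/
def mkU (g : V ≃ₗ[F] V) (h : ∀ x y, B (g x) (g y) = B x y) : UU B := ⟨g, h⟩

theorem ac_mkU (g : V ≃ₗ[F] V) (h : ∀ x y, B (g x) (g y) = B x y) (x : V) : ac B (mkU g h) x = g x := rfl

variable (B)

/-- The orthogonal complement. -/
def perp (W : Submodule F V) : Submodule F V where
  carrier := {v | ∀ w ∈ W, B w v = 0}
  add_mem' := fun {a b} ha hb w hw => by rw [map_add, ha w hw, hb w hw, add_zero]
  zero_mem' := fun w _ => map_zero _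
  smul_mem' := fun c a ha w hw => by rw [map_smul, ha w hw, smul_zero]

variable {B}

theorem mem_perp {W : Submodule F V} {v : V} : v ∈ perp B W ↔ ∀ w ∈ W, B w v = 0 := Iff.rfl

variable (B)

/-- The pointwise stabilizer of a subspace. -/
def FixS (W : Submodule F V) : Subgroup (UU B) where
  carrier := {g | ∀ w ∈ W, ac B g w = w}
  mul_mem' := by
    intro a b ha hb w hw
    rw [ac_mul, hb w hw, ha w hw]
  one_mem' := fun w _ => rfl
  inv_mem' := by
    intro a ha w hw
    have h := ac_inv_ac a w
    rwa [ha w hw] at h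

variable {B}

theorem mem_FixS {W : Submodule F V} {g : UU B} : g ∈ FixS B W ↔ ∀ w ∈ W, ac B g w = w := Iff.rfl

variable (B)

/-- The group of all unitary transformations which are trivial on the hyperplane orthogonal to `f` (for a
nonsingular vector `f` the group of reflections with centre `f`, cyclic of order `q + 1`). -/
def Ref (f : V) : Subgroup (UU B) := FixS B (perp B (Submodule.span F {f}))

variable {B}

/-- The fixed space of an element. -/
def fx (g : UU B) : Submodule F V where
  carrier := {v | ac B g v = v}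
  add_mem' := fun {a b} ha hb => by
    show ac B g (a + b) = a + b
    rw [ac_add]
    exact congrArg₂ _ ha hb
  zero_mem' := ac_zero g
  smul_mem' := fun c a ha => by
    show ac B g (c • a) = c • a
    rw [ac_smul]
    exact congrArg _ ha

theorem mem_fx {g : UU B} {v : V} : v ∈ fx g ↔ ac B g v = v := Iff.rfl

/-- The function `g ↦ (-q) ^ dim (fixed space of g)` (for `dim V` odd its negative is the Weil character). -/
noncomputable def wf (q : ℕ) (g : UU B) : ℂ := (-(q : ℂ)) ^ finrank F (fx g)

variable (B)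

/-- Totally singular subspaces. -/
def IsTS (E : Submodule F V) : Prop := ∀ x ∈ E, ∀ y ∈ E, B x y = 0

variable {B}

/-- Unitary transvections. -/
def IsTv (t : UU B) : Prop := t ≠ 1 ∧ ∃ e : V, e ≠ 0 ∧ B e e = 0 ∧ t ∈ Ref B e

/-- The linear relation `∑_{ρ ∈ Ref f} Δ (ρ g) = 0` for all `g` and all nonsingular `f`. -/
def Star (Δ : UU B → ℂ) : Prop :=
  ∀ f : V, B f f = 1 → ∀ g : UU B, ∑ᶠ ρ : Ref B f, Δ ((ρ : UU B) * g) = 0

/-- No fixed vectors for the groups of reflections. -/
def NoRef (χ : UU B → ℂ) : Prop := ∀ f : V, B f f = 1 → ∑ᶠ ρ : Ref B f, χ (ρ : UU B) = 0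

variable (B)

/-- The scalar transformations in the unitary group. -/
def Zs : Subgroup (UU B) where
  carrier := {g | ∃ c : F, ∀ x, ac B g x = c • x}
  mul_mem' := by
    rintro a b ⟨c, hc⟩ ⟨d, hd⟩
    exact ⟨c * d, fun x => by rw [ac_mul, hd, hc, smul_smul]⟩
  one_mem' := ⟨1, fun x => by rw [ac_one, one_smul]⟩
  inv_mem' := by
    rintro a ⟨c, hc⟩
    refine ⟨c⁻¹, fun x => ?_⟩
    by_cases hc0 : c = 0
    · subst hc0
      have h : ac B a (ac B a⁻¹ x) = x := ac_ac_inv a x
      rw [hc, zero_smul] at h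
      rw [← h, ac_zero, smul_zero]
    · have h : ac B a (ac B a⁻¹ x) = x := ac_ac_inv a x
      rw [hc] at h
      rw [← h, smul_smul, h, inv_mul_cancel₀ hc0, one_smul]

variable {B}

theorem mem_Zs {g : UU B} : g ∈ Zs B ↔ ∃ c : F, ∀ x, ac B g x = c • x := Iff.rfl

/-- The determinant. -/
noncomputable def dt : UU B →* Fˣ := LinearEquiv.det.comp (UU B).subtype

theorem dt_def (g : UU B) : dt g = LinearEquiv.det (g : V ≃ₗ[F] V) := rfl

/-- The linear character attached to a homomorphism `κ` from the multiplicative group of the field. -/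
noncomputable def dl (κ : Fˣ →* ℂˣ) (g : UU B) : ℂ := (κ (dt g) : ℂˣ)

/-- `κ` is nontrivial on the norm one group. -/
def KNT (q : ℕ) (κ : Fˣ →* ℂˣ) : Prop := ∃ a : Fˣ, a ^ (q + 1) = 1 ∧ κ a ≠ 1

end

section Basic

variable {F : Type u} {V : Type v} [Field F] [AddCommGroup V] [Module F V] {q : ℕ} {σ : F →+* F}
  {B : V →ₛₗ[σ] V →ₗ[F] F}

theorem HS.inv (h : HS q σ B) [Finite F] (a : F) : σ (σ a) = a := by
  rw [h.sig, h.sig, ← pow_mul, ← sq, ← h.card]
  have := Fintype.ofFinite F
  rw [Nat.card_eq_fintype_card, FiniteField.pow_card]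

theorem HS.ne_id (h : HS q σ B) [Finite F] : σ ≠ RingHom.id F := by
  intro h0
  have hq := h.two_le
  have := Fintype.ofFinite F
  obtain ⟨g, hg⟩ := IsCyclic.exists_generator (α := Fˣ)
  have h1 : g ^ (q - 1) = 1 := by
    have h2 : g ^ q = g := by
      ext
      rw [Units.val_pow_eq_pow_val, ← h.sig, h0, RingHom.id_apply]
    have h3 : g ^ (q - 1) * g = g := by
      rw [← pow_succ]
      have : q - 1 + 1 = q := by omega
      rw [this, h2]
    exact mul_eq_right.mp h3
  have h4 : orderOf g = Nat.card Fˣ := orderOf_eq_card_of_forall_mem_zpowers hg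
  have h5 : Nat.card Fˣ = q ^ 2 - 1 := by
    rw [Nat.card_units, h.card]
  have h6 : orderOf g ≤ q - 1 := orderOf_le_of_pow_eq_one (by omega) h1
  rw [h4, h5] at h6
  have h7 : 2 * q ≤ q ^ 2 := by rw [sq]; exact Nat.mul_le_mul_right q hq
  omega

theorem HS.sy (h : HS q σ B) (x y : V) : σ (B x y) = B y x := h.symm.eq x y

theorem HS.zero_symm (h : HS q σ B) {x y : V} (hxy : B x y = 0) : B y x = 0 := by
  rw [← h.sy, hxy, map_zero]

theorem HS.ext (h : HS q σ B) {x : V} (hx : ∀ y, B x y = 0) : x = 0 := h.sep x hx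

instance [Finite V] : Finite (V ≃ₗ[F] V) := Finite.of_injective (fun g : V ≃ₗ[F] V => (g : V → V))
  (fun _ _ h => LinearEquiv.ext fun x => congrFun h x)

instance [Finite V] : Finite (UU B) := inferInstance

theorem finrank_eq_of_HS (_h : HS q σ B) [Finite V] : FiniteDimensional F V := inferInstance

end Basic

end Cfsg.Agent.H603.CC
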