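import Cfsg.Agent.H603.CC.Basic
import Cfsg.Agent.H269.CC.Gen
import Cfsg.Agent.H466.CCPart
import Cfsg.Agent.H984.CC.Loc1
import Cfsg.Agent.H128.CCLoc
import Cfsg.Agent.H161.CC.UE
import Cfsg.Agent.H174.CC.CharF
import Cfsg.Agent.H118.CC.Form
import Cfsg.Agent.H305.CC.Torus
import Cfsg.Agent.H775.CC.Regu
import Cfsg.Agent.H212.CC.Star
import Cfsg.Agent.H688.CC.Wsum
import Cfsg.Agent.H910.CC.Rank1
import Cfsg.Agent.H486.CC.Integ
import Cfsg.Agent.H458.CC.Main2Core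
import Cfsg.Agent.H183.CC.Deg

/-!
# S4793: instantiation of the parts
-/

set_option autoImplicit false
set_option linter.unusedSectionVars false

open Cfsg
open scoped ComplexConjugate

namespace Cfsg.Agent.H603.CC

open Module

universe u v

section

variable {F : Type u} {V : Type v} [Field F] [AddCommGroup V] [Module F V] {q : ℕ} {σ : F →+* F}
  {B : V →ₛₗ[σ] V →ₗ[F] F} [Finite F] [Finite V]

theorem part_one (h : HS q σ B) {m : ℕ} (hn : finrank F V = 2 * m + 1) (hm : 1 ≤ m)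
    (hq : ¬ (m = 1 ∧ q = 2)) {χ : UU B → ℂ} (hχ : IsIrrCharacter (UU B) χ)
    (hz : ∀ z ∈ Zs B, ∀ g, χ (z * g) = χ g) (hr : ¬ NoRef χ) :
    ∃ x : UU B, ∑ᶠ g : Subgroup.centralizer {x}, χ (g : UU B) ≠ 0 :=
  Cfsg.Agent.H466.CCPart.part_one_of h hm hχ hz hr (witt h) (perp_perp h)
    (fun _ hf _ hN _ hg hgf => Cfsg.Agent.H269.CC.gen_tv_fix h (by omega) hf hN hg hgf)
    (fun _ hE _ he _ he' => Cfsg.Agent.H161.CC.exists_zz h hE he he')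
    (by
      obtain ⟨ψ, h1, h2⟩ := Cfsg.Agent.H174.CC.exists_psi F q σ h.two_le h.card h.sig
      exact ⟨ψ, h1, fun E hE => h2 V B h E hE⟩)
    (fun _ C C' hC hC' hk =>
      Cfsg.Agent.H118.CC.exists_isometry_of_rank h.two_le h.card h.sig C C' hC hC' rfl hk)
    (Cfsg.Agent.H305.CC.exists_torus h hn hm hq)
    (fun _ hf => Cfsg.Agent.H775.CC.exists_regu h hn hm hf)

theorem exists_Y (h : HS q σ B) (hodd : Odd (finrank F V)) (x : UU B) :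
    ∃ Y : Subgroup (UU B), (∀ y ∈ Y, y * x = x * y) ∧ ∑ᶠ y : Y, wf q (y : UU B) = 0 :=
  Cfsg.Agent.H984.CC.exists_Y_of_locSum h hodd x
    (fun A _ _ _ _ _ s hs hsF ho => Cfsg.Agent.H128.CCLoc.loc_sum h.two_le h.card s hs hsF ho)

theorem gen_tv (h : HS q σ B) (h32 : ¬ (finrank F V = 3 ∧ q = 2)) {N : Subgroup (UU B)}
    (hN : ∀ t : UU B, IsTv t → t ∈ N) {g : UU B} (hg : dt g = 1) : g ∈ N :=
  Cfsg.Agent.H269.CC.gen_tv h h32 hN hg

/-- the inputs of `Main2Core` -/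
theorem inp (h : HS q σ B) (hodd : Odd (finrank F V)) (hn : 3 ≤ finrank F V) :
    Cfsg.Agent.H458.CC.Main2Core.Inp q B where
  ref := fun {f} hf {c} hc => by
    obtain ⟨ρ, hρ, hx⟩ := exists_rf h hf hc
    refine ⟨ρ, hρ, ?_⟩
    rw [dt_of_ac hx, hf, mul_one, add_sub_cancel]
  tv := fun {e} he0 he {t} ht => by
    obtain ⟨k, _, h1, h2⟩ := of_mem_Ref_tv h he0 he ht
    exact ⟨k, h1, h2⟩
  finrank_perp := finrank_perp h
  isConj_tv := isConj_tv h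
  exists_isTv := exists_isTv h (by omega)
  star_wf := Cfsg.Agent.H212.CC.star_wf h
  wf_class := Cfsg.Agent.H212.CC.wf_class
  star_of_noRef := Cfsg.Agent.H212.CC.star_of_noRef
  inner_eq_zero := Cfsg.Agent.H212.CC.inner_eq_zero
  wsum := Cfsg.Agent.H688.CC.wsum h
  sum_sq := Cfsg.Agent.H688.CC.sum_sq h (by omega)
  sum_sq_dl := Cfsg.Agent.H688.CC.sum_sq_dl h hn
  zero_on := Cfsg.Agent.H910.CC.zero_on h hodd
  not_noRef_mul := Cfsg.Agent.H910.CC.not_noRef_mul h hodd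
  integrality := Cfsg.Agent.H486.CCInteg.integrality h hn

theorem exists_unique_weil (h : HS q σ B) (hodd : Odd (finrank F V)) (hn : 3 ≤ finrank F V)
    (ε : Zs B →* ℂˣ) :
    ∃ χ : IrrCharacter (UU B), NoRef (χ : UU B → ℂ) ∧ (∀ t : UU B, IsTv t → (χ : UU B → ℂ) t ≠ (χ : UU B → ℂ) 1) ∧
      (∀ (z : Zs B) (g : UU B), (χ : UU B → ℂ) (z * g) = (ε z : ℂˣ) * (χ : UU B → ℂ) g) ∧
      (∀ g : UU B, (χ : UU B → ℂ) g = ((q : ℂ) + 1)⁻¹ * ∑ᶠ z : Zs B, ((ε z)⁻¹ : ℂˣ) * (- wf q ((z : UU B) * g))) ∧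
      ∀ ψ : IrrCharacter (UU B), NoRef (ψ : UU B → ℂ) →
        (∀ t : UU B, IsTv t → (ψ : UU B → ℂ) t ≠ (ψ : UU B → ℂ) 1) →
        (∀ (z : Zs B) (g : UU B), (ψ : UU B → ℂ) (z * g) = (ε z : ℂˣ) * (ψ : UU B → ℂ) g) → ψ = χ :=
  Cfsg.Agent.H458.CC.Main2Core.exists_unique_weil h hodd hn (inp h hodd hn) ε

theorem weil_sum_zero (h : HS q σ B) (hodd : Odd (finrank F V)) (hn : 3 ≤ finrank F V)
    {χ : UU B → ℂ} (hχ : IsIrrCharacter (UU B) χ) (hr : NoRef χ)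
    (ht : ∀ t : UU B, IsTv t → χ t ≠ χ 1) (Y : Subgroup (UU B)) (hY : ∑ᶠ y : Y, wf q (y : UU B) = 0) :
    ∑ᶠ y : Y, χ (y : UU B) = 0 :=
  Cfsg.Agent.H458.CC.Main2Core.weil_sum_zero h hodd hn (inp h hodd hn) hχ hr ht Y hY

theorem noRef_of_degree (h : HS q σ B) (hodd : Odd (finrank F V)) (hn : 3 ≤ finrank F V)
    (hcop : Nat.Coprime (finrank F V) (q + 1)) {χ : UU B → ℂ} (hχ : IsIrrCharacter (UU B) χ)
    (hz : ∀ z ∈ Zs B, ∀ g, χ (z * g) = χ g)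
    (hdeg : charDegree χ = (q ^ finrank F V - q) / (q + 1)) : NoRef χ :=
  Cfsg.Agent.H183.CC.noRef_of_degree_of_weil h hodd hn
    (fun _ ε => exists_unique_weil h hodd hn ε) hcop hχ hz hdeg

end

end Cfsg.Agent.H603.CC
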